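import Groth.Agent.OrbitLib.Main
import Groth.Agent.DensePtsLib.AlgClosed
import Groth.Agent.GrpFieldLib.Uniq
import Groth.Agent.FinHomLib.Affine
import Groth.Agent.MonoQuotLib.Orbit
import Groth.Prelude.Def_AGF

/-!
# Homogeneous spaces with an isolated rational point are finite
-/

set_option autoImplicit false
set_option backward.isDefEq.respectTransparency false

universe u

open CategoryTheory CategoryTheory.Limits MonoidalCategory CartesianMonoidalCategory AlgebraicGeometry
open scoped MonObj

noncomputable section

namespace FinQuot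

attribute [-instance] CategoryTheory.Hom.commGroup

variable {k : Type u} [Field k] {G X : Over (Spec (CommRingCat.of k))} [GrpObj G] (a : AlgGrp.Action G X)
  (o : 𝟙_ (Over (Spec (CommRingCat.of k))) ⟶ X)

theorem isOpen_image_of_isolated (hx : IsOpen (Set.range o.left.base)) (p : G.left) :
    IsOpen ({(a.orbitMap o).left.base p} : Set X.left) := by
  let T : Over (Spec (CommRingCat.of k)) := Over.mk (G.left.fromSpecResidueField p ≫ G.hom)
  let g : T ⟶ G := Over.homMk (G.left.fromSpecResidueField p) rfl
  haveI : Subsingleton T.left := inferInstanceAs (Subsingleton ↥(Spec (G.left.residueField p)))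
  let φ : T ⊗ X ⟶ T ⊗ X := lift (fst T X) (lift (fst T X ≫ g) (snd T X) ≫ a.act)
  let ψ : T ⊗ X ⟶ T ⊗ X := lift (fst T X) (lift ((fst T X ≫ g)⁻¹) (snd T X) ≫ a.act)
  have h1 : φ ≫ ψ = 𝟙 _ := by
    refine CartesianMonoidalCategory.hom_ext _ _ (by simp [φ, ψ]) ?_
    simp only [φ, ψ, Category.assoc, lift_snd, Category.id_comp]
    rw [← Category.assoc, comp_lift, GrpObj.comp_inv, lift_fst_assoc, lift_snd,
      ← Groth.Agent.MonoQuot.act_mul, inv_mul_cancel, Groth.Agent.MonoQuot.act_one]
  have h2 : ψ ≫ φ = 𝟙 _ := by
    refine CartesianMonoidalCategory.hom_ext _ _ (by simp [φ, ψ]) ?_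
    simp only [φ, ψ, Category.assoc, lift_snd, Category.id_comp]
    rw [← Category.assoc, comp_lift, lift_fst_assoc, lift_snd,
      ← Groth.Agent.MonoQuot.act_mul, mul_inv_cancel, Groth.Agent.MonoQuot.act_one]
  haveI : IsIso φ := ⟨ψ, h1, h2⟩
  haveI : IsIso φ.left := inferInstanceAs (IsIso ((Over.forget _).map φ))
  let oT : T ⟶ T ⊗ X := lift (𝟙 T) (toUnit T ≫ o)
  have hr : Set.range oT.left.base = (snd T X).left.base ⁻¹' Set.range o.left.base := by
    have h := Scheme.image_preimage_eq_of_isPullback (Groth.Agent.FinHom.isPullback_whiskerLeft T o).flip Set.univ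
    rw [Set.preimage_univ, Set.image_univ, Set.image_univ] at h
    rw [Over.snd_left, ← h]
    have e : oT = (ρ_ T).inv ≫ (T ◁ o) := CartesianMonoidalCategory.hom_ext _ _ (by simp [oT])
      (by
        simp only [oT, lift_snd, Category.assoc, whiskerLeft_snd]
        rw [← Category.assoc]
        congr 1
        exact toUnit_unique _ _)
    rw [e, Over.comp_left, Scheme.Hom.comp_base, TopCat.coe_comp, Set.range_comp,
      show Set.range (ρ_ T).inv.left.base = Set.univ from
        Set.range_eq_univ.mpr ((Over.forget _).mapIso (ρ_ T).symm).hom.surjective, Set.image_univ]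
  have hopen : IsOpen (Set.range oT.left.base) := by
    rw [hr]; exact hx.preimage (snd T X).left.continuous
  have hsnd : IsOpenMap (snd T X).left.base := by
    rw [Over.snd_left]
    haveI := Groth.Agent.GrpField.universallyOpen_field T.hom
    haveI : UniversallyOpen (pullback.snd T.hom X.hom) :=
      MorphismProperty.pullback_snd (P := @UniversallyOpen) _ _ inferInstance
    exact (pullback.snd T.hom X.hom).isOpenMap
  have key : oT ≫ φ ≫ snd T X = g ≫ a.orbitMap o := by
    rw [OrbitLib.comp_orbitMap]
    simp only [φ, oT, Category.assoc, lift_snd]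
    rw [← Category.assoc, comp_lift, lift_fst_assoc, lift_snd, Category.id_comp]
  have hgoal : ({(a.orbitMap o).left.base p} : Set X.left) =
      (snd T X).left.base '' (φ.left.base '' Set.range oT.left.base) := by
    have h3 : Set.range (g ≫ a.orbitMap o).left.base = {(a.orbitMap o).left.base p} := by
      rw [Over.comp_left, Scheme.Hom.comp_base, TopCat.coe_comp, Set.range_comp,
        show Set.range g.left.base = {p} from Scheme.range_fromSpecResidueField p, Set.image_singleton]
    rw [← h3, ← key, Over.comp_left, Over.comp_left, Scheme.Hom.comp_base, Scheme.Hom.comp_base,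
      TopCat.coe_comp, TopCat.coe_comp, Set.range_comp, Set.image_comp]
  rw [hgoal]
  exact hsnd _ (φ.left.homeomorph.isOpenMap _ hopen)

/-- A homogeneous space with an isolated rational point is finite. -/
theorem isFinite_of_isolated [LocallyOfFiniteType X.hom] [QuasiCompact G.hom] [Surjective (a.orbitMap o).left]
    (hx : IsOpen (Set.range o.left.base)) : IsFinite X.hom := by
  haveI : DiscreteTopology X.left := discreteTopology_iff_isOpen_singleton.2 fun z => by
    obtain ⟨p, rfl⟩ := (a.orbitMap o).left.surjective z
    exact isOpen_image_of_isolated a o hx p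
  haveI : CompactSpace G.left := QuasiCompact.compactSpace_of_compactSpace G.hom
  haveI : CompactSpace X.left :=
    ⟨(a.orbitMap o).left.surjective.range_eq ▸ isCompact_range (a.orbitMap o).left.continuous⟩
  haveI : IsLocallyNoetherian X.left := LocallyOfFiniteType.isLocallyNoetherian X.hom
  haveI : IsLocallyArtinian X.left := .of_isLocallyNoetherian_of_discreteTopology
  haveI : Finite X.left := finite_of_compact_of_discrete
  haveI : LocallyQuasiFinite X.hom :=
    LocallyQuasiFinite.of_finite_preimage_singleton X.hom fun y => Set.toFinite _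
  haveI : IsArtinianScheme X.left := {}
  haveI : IsAffine X.left := inferInstance
  haveI : QuasiCompact X.hom := quasiCompact_of_compactSpace _
  exact IsFinite.of_locallyQuasiFinite X.hom

end FinQuot
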